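import Mathlib

/-! The plane `(ℤ/p^n)²` with its determinant form: orthogonals of submodules. -/

set_option autoImplicit false

namespace Cfsg.Agent.Lib.Metacyclic

/-- `(ℤ/p^n)²` -/
abbrev V (p n : ℕ) := ZMod (p ^ n) × ZMod (p ^ n)

variable {p n : ℕ}

/-- the determinant -/
def det2 (u v : V p n) : ZMod (p ^ n) := u.1 * v.2 - u.2 * v.1

theorem det2_self (u : V p n) : det2 u u = 0 := by simp [det2, mul_comm]

theorem det2_comm (u v : V p n) : det2 v u = -det2 u v := by simp [det2]; ring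

theorem det2_add_left (u v w : V p n) : det2 (u + v) w = det2 u w + det2 v w := by simp [det2]; ring

theorem det2_smul_left (c : ZMod (p ^ n)) (u v : V p n) : det2 (c • u) v = c * det2 u v := by
  simp [det2]; ring

/-- orthogonal of a submodule -/
def perp (M : Submodule (ZMod (p ^ n)) (V p n)) : Submodule (ZMod (p ^ n)) (V p n) where
  carrier := {v | ∀ u ∈ M, det2 v u = 0}
  add_mem' := fun {a b} ha hb u hu => by rw [det2_add_left, ha u hu, hb u hu, add_zero]
  zero_mem' := fun u _ => by simp [det2]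
  smul_mem' := fun c {a} ha u hu => by rw [det2_smul_left, ha u hu, mul_zero]

theorem mem_perp {M : Submodule (ZMod (p ^ n)) (V p n)} {v : V p n} :
    v ∈ perp M ↔ ∀ u ∈ M, det2 v u = 0 := Iff.rfl

theorem perp_antitone {M N : Submodule (ZMod (p ^ n)) (V p n)} (h : M ≤ N) : perp N ≤ perp M :=
  fun _ hv u hu => hv u (h hu)

theorem le_perp_perp (M : Submodule (ZMod (p ^ n)) (V p n)) : M ≤ perp (perp M) :=
  fun u hu v hv => by rw [det2_comm v u, hv u hu, neg_zero]

theorem perp_span_singleton (v : V p n) {w : V p n} :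
    w ∈ perp (Submodule.span (ZMod (p ^ n)) {v}) ↔ det2 w v = 0 := by
  constructor
  · exact fun h => h v (Submodule.mem_span_singleton_self v)
  · intro h u hu
    obtain ⟨c, rfl⟩ := Submodule.mem_span_singleton.mp hu
    rw [det2_comm (c • v) w, det2_smul_left, det2_comm w v, h, neg_zero, mul_zero, neg_zero]

/-- `p^x` divides the first and `p^y` the second coordinate -/
def std (x y : ℕ) : Submodule (ZMod (p ^ n)) (V p n) :=
  Submodule.prod (Ideal.span {(p : ZMod (p ^ n)) ^ x}) (Ideal.span {(p : ZMod (p ^ n)) ^ y})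

theorem mem_std {x y : ℕ} {v : V p n} :
    v ∈ std x y ↔ (p : ZMod (p ^ n)) ^ x ∣ v.1 ∧ (p : ZMod (p ^ n)) ^ y ∣ v.2 := by
  rw [std, Submodule.mem_prod, Ideal.mem_span_singleton, Ideal.mem_span_singleton]

theorem dvd_iff_mul_eq_zero (hp : p.Prime) {x : ℕ} (hx : x ≤ n) (a : ZMod (p ^ n)) :
    (p : ZMod (p ^ n)) ^ x ∣ a ↔ (p : ZMod (p ^ n)) ^ (n - x) * a = 0 := by
  haveI : NeZero (p ^ n) := ⟨pow_ne_zero n hp.ne_zero⟩
  constructor
  · rintro ⟨c, rfl⟩
    rw [← mul_assoc, ← pow_add, Nat.sub_add_cancel hx, ← Nat.cast_pow, ZMod.natCast_self, zero_mul]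
  · intro h
    rw [← ZMod.natCast_zmod_val a, ← Nat.cast_pow, ← Nat.cast_mul, ZMod.natCast_eq_zero_iff] at h
    have h2 : p ^ x ∣ a.val :=
      (Nat.mul_dvd_mul_iff_left (pow_pos hp.pos (n - x))).mp
        (by rwa [← pow_add, Nat.sub_add_cancel hx])
    obtain ⟨c, hc⟩ := h2
    exact ⟨(c : ZMod (p ^ n)), by rw [← ZMod.natCast_zmod_val a, hc, Nat.cast_mul, Nat.cast_pow]⟩

theorem pow_dvd_pow_zmod (hp : p.Prime) {a b : ℕ} (ha : a ≤ n) :
    (p : ZMod (p ^ n)) ^ a ∣ (p : ZMod (p ^ n)) ^ b → a ≤ b := by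
  intro h
  rw [dvd_iff_mul_eq_zero hp ha, ← pow_add, ← Nat.cast_pow, ZMod.natCast_eq_zero_iff,
    Nat.pow_dvd_pow_iff_le_right hp.one_lt] at h
  omega

theorem card_ideal (hp : p.Prime) {x : ℕ} (hx : x ≤ n) :
    Nat.card (Ideal.span {(p : ZMod (p ^ n)) ^ x}) = p ^ (n - x) := by
  haveI : NeZero (p ^ n) := ⟨pow_ne_zero n hp.ne_zero⟩
  have e : Nat.card (Ideal.span {(p : ZMod (p ^ n)) ^ x}) =
      Nat.card (AddSubgroup.zmultiples ((p : ZMod (p ^ n)) ^ x)) := by
    refine Nat.card_congr (Equiv.subtypeEquivRight fun a => ?_)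
    rw [Ideal.mem_span_singleton, AddSubgroup.mem_zmultiples_iff]
    constructor
    · rintro ⟨c, rfl⟩
      obtain ⟨k, rfl⟩ := ZMod.intCast_surjective c
      exact ⟨k, by rw [zsmul_eq_mul, mul_comm]⟩
    · rintro ⟨k, rfl⟩
      exact ⟨k, by rw [zsmul_eq_mul, mul_comm]⟩
  rw [e, Nat.card_zmultiples, ← Nat.cast_pow, ZMod.addOrderOf_coe _ (pow_ne_zero n hp.ne_zero),
    Nat.gcd_eq_right (pow_dvd_pow p hx), Nat.pow_div hx hp.pos]

theorem card_std (hp : p.Prime) {x y : ℕ} (hx : x ≤ n) (hy : y ≤ n) :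
    Nat.card (std (p := p) (n := n) x y) = p ^ (n - x + (n - y)) := by
  rw [pow_add, ← card_ideal hp hx, ← card_ideal hp hy, ← Nat.card_prod]
  exact Nat.card_congr
    { toFun := fun v => (⟨v.1.1, v.2.1⟩, ⟨v.1.2, v.2.2⟩)
      invFun := fun w => ⟨(w.1.1, w.2.1), w.1.2, w.2.2⟩
      left_inv := fun _ => rfl
      right_inv := fun _ => rfl }

theorem perp_std (hp : p.Prime) {x y : ℕ} (hx : x ≤ n) (hy : y ≤ n) :
    perp (std (p := p) (n := n) x y) = std (n - y) (n - x) := by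
  ext v
  rw [mem_perp, mem_std, dvd_iff_mul_eq_zero hp (Nat.sub_le n y), dvd_iff_mul_eq_zero hp (Nat.sub_le n x),
    Nat.sub_sub_self hy, Nat.sub_sub_self hx]
  constructor
  · intro h
    constructor
    · have := h (0, (p : ZMod (p ^ n)) ^ y) (mem_std.mpr ⟨dvd_zero _, dvd_rfl⟩)
      simpa [det2, mul_comm] using this
    · have := h ((p : ZMod (p ^ n)) ^ x, 0) (mem_std.mpr ⟨dvd_rfl, dvd_zero _⟩)
      simpa [det2, mul_comm] using this
  · rintro ⟨h1, h2⟩ u hu
    obtain ⟨⟨a, ha⟩, ⟨b, hb⟩⟩ := mem_std.mp hu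
    rw [det2, ha, hb]
    linear_combination b * h1 - a * h2

theorem exists_shape (hp : p.Prime) (M : Submodule (ZMod (p ^ n)) (V p n)) :
    ∃ (T : V p n ≃ₗ[ZMod (p ^ n)] V p n) (x y : ℕ),
      (∀ u v, det2 (T u) (T v) = det2 u v) ∧ x ≤ y ∧ y ≤ n ∧ ∀ v, v ∈ M ↔ T v ∈ std x y := by
  classical
  haveI : NeZero (p ^ n) := ⟨pow_ne_zero n hp.ne_zero⟩
  have hpn : (p : ZMod (p ^ n)) ^ n = 0 := by rw [← Nat.cast_pow, ZMod.natCast_self]
  by_cases hM : M = ⊥
  · refine ⟨LinearEquiv.refl _ _, n, n, fun _ _ => rfl, le_rfl, le_rfl, fun v => ?_⟩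
    simp [hM, mem_std, hpn, Prod.ext_iff]
  let P : ℕ → Prop := fun x => x ≤ n ∧ ∀ v ∈ M, (p : ZMod (p ^ n)) ^ x ∣ v.1 ∧ (p : ZMod (p ^ n)) ^ x ∣ v.2
  obtain ⟨x, hPx, hmaxx⟩ : ∃ x, P x ∧ ∀ z, P z → z ≤ x :=
    ⟨Nat.findGreatest P n, Nat.findGreatest_spec (m := 0) (Nat.zero_le n)
      ⟨Nat.zero_le n, fun v _ => by simp⟩, fun z hz => Nat.le_findGreatest hz.1 hz⟩
  have hxn : x < n := by
    rcases lt_or_eq_of_le hPx.1 with h | h
    · exact h
    · exfalso
      apply hM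
      rw [Submodule.eq_bot_iff]
      intro v hv
      obtain ⟨h1, h2⟩ := hPx.2 v hv
      rw [h, hpn, zero_dvd_iff] at h1 h2
      exact Prod.ext h1 h2
  obtain ⟨m, hm, hm'⟩ : ∃ m ∈ M, ¬ ((p : ZMod (p ^ n)) ^ (x + 1) ∣ m.1 ∧ (p : ZMod (p ^ n)) ^ (x + 1) ∣ m.2) := by
    by_contra hcon
    push Not at hcon
    have := hmaxx (x + 1) ⟨hxn, hcon⟩
    omega
  obtain ⟨⟨e1, he1⟩, ⟨e2, he2⟩⟩ := hPx.2 m hm
  have hunit : IsUnit e1 ∨ IsUnit e2 := by
    by_contra hcon
    push Not at hcon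
    have hdvd : ∀ e : ZMod (p ^ n), ¬ IsUnit e → (p : ZMod (p ^ n)) ∣ e := by
      intro e he
      rw [← ZMod.natCast_zmod_val e, ZMod.isUnit_natCast_iff_not_dvd_pow hp (by omega : 0 < n), not_not] at he
      obtain ⟨c, hc⟩ := he
      exact ⟨c, by rw [← ZMod.natCast_zmod_val e, hc, Nat.cast_mul]⟩
    apply hm'
    rw [he1, he2, pow_succ]
    exact ⟨mul_dvd_mul_left _ (hdvd e1 hcon.1), mul_dvd_mul_left _ (hdvd e2 hcon.2)⟩
  obtain ⟨f1, f2, hef⟩ : ∃ f1 f2 : ZMod (p ^ n), e1 * f2 - e2 * f1 = 1 := by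
    rcases hunit with ⟨u, hu⟩ | ⟨u, hu⟩
    · exact ⟨0, ↑u⁻¹, by rw [← hu]; simp⟩
    · exact ⟨-↑u⁻¹, 0, by rw [← hu]; simp⟩
  let T : V p n ≃ₗ[ZMod (p ^ n)] V p n :=
    { toFun := fun v => (det2 v (f1, f2), det2 (e1, e2) v)
      map_add' := fun u v => by simp [det2]; constructor <;> ring
      map_smul' := fun c u => by simp [det2]; constructor <;> ring
      invFun := fun w => (w.1 * e1 + w.2 * f1, w.1 * e2 + w.2 * f2)
      left_inv := fun v => by
        apply Prod.ext <;> simp only [det2]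
        · linear_combination v.1 * hef
        · linear_combination v.2 * hef
      right_inv := fun w => by
        apply Prod.ext <;> simp only [det2]
        · linear_combination w.1 * hef
        · linear_combination w.2 * hef }
  have hTm : T m = ((p : ZMod (p ^ n)) ^ x, 0) := by
    apply Prod.ext <;> simp only [T, LinearEquiv.coe_mk, LinearMap.coe_mk, AddHom.coe_mk, det2, he1, he2]
    · linear_combination (p : ZMod (p ^ n)) ^ x * hef
    · ring
  let Q : ℕ → Prop := fun t => (p : ZMod (p ^ n)) ^ t • (f1, f2) ∈ M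
  have hQ : ∃ t, Q t := ⟨n, by simp only [Q, hpn, zero_smul]; exact M.zero_mem⟩
  obtain ⟨y, hy, hymin, hyn⟩ : ∃ y, Q y ∧ (∀ t, Q t → y ≤ t) ∧ y ≤ n :=
    ⟨Nat.find hQ, Nat.find_spec hQ, fun t ht => Nat.find_le ht,
      Nat.find_le (by simp only [Q, hpn, zero_smul]; exact M.zero_mem)⟩
  have hxy : x ≤ y := by
    obtain ⟨h1, h2⟩ := hPx.2 _ hy
    simp only [Prod.smul_fst, Prod.smul_snd, smul_eq_mul] at h1 h2
    refine pow_dvd_pow_zmod (b := y) hp hxn.le ?_
    have := dvd_sub (h2.mul_left e1) (h1.mul_left e2)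
    rwa [show e1 * ((p : ZMod (p ^ n)) ^ y * f2) - e2 * ((p : ZMod (p ^ n)) ^ y * f1) =
      (p : ZMod (p ^ n)) ^ y by linear_combination (p : ZMod (p ^ n)) ^ y * hef] at this
  refine ⟨T, x, y, fun u v => ?_, hxy, hyn, fun v => ?_⟩
  · simp only [T, LinearEquiv.coe_mk, LinearMap.coe_mk, AddHom.coe_mk, det2]
    linear_combination (u.1 * v.2 - u.2 * v.1) * hef
  rw [mem_std]
  constructor
  · intro hv
    obtain ⟨⟨a, ha⟩, ⟨b, hb⟩⟩ := hPx.2 v hv
    refine ⟨⟨a * f2 - b * f1, by simp only [T, LinearEquiv.coe_mk, LinearMap.coe_mk, AddHom.coe_mk, det2, ha, hb]; ring⟩, ?_⟩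
    -- `v - α m = β f`
    set w := v - (a * f2 - b * f1) • m with hw
    have hwM : w ∈ M := M.sub_mem hv (M.smul_mem _ hm)
    have hwf : w = (T v).2 • (f1, f2) := by
      rw [hw]
      apply Prod.ext <;> simp only [T, LinearEquiv.coe_mk, LinearMap.coe_mk, AddHom.coe_mk, det2,
        Prod.fst_sub, Prod.snd_sub, Prod.smul_fst, Prod.smul_snd, smul_eq_mul, he1, he2, ha, hb]
      · linear_combination -((p : ZMod (p ^ n)) ^ x * a) * hef
      · linear_combination -((p : ZMod (p ^ n)) ^ x * b) * hef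
    rw [hwf] at hwM
    generalize (T v).2 = β at hwM ⊢
    by_cases hβ0 : β = 0
    · simp [hβ0]
    obtain ⟨s, c, hsc, hcp⟩ : ∃ s c : ℕ, β.val = p ^ s * c ∧ ¬ p ∣ c := by
      obtain ⟨s, c, hc, h⟩ := Nat.exists_eq_pow_mul_and_not_dvd
        (n := β.val) (fun h => hβ0 ((ZMod.val_eq_zero β).mp h)) p hp.ne_one
      exact ⟨s, c, h, hc⟩
    have hu : IsUnit (c : ZMod (p ^ n)) := (ZMod.isUnit_natCast_iff_not_dvd_pow hp (by omega : 0 < n)).mpr hcp
    have hβ : β = (p : ZMod (p ^ n)) ^ s * c := by rw [← ZMod.natCast_zmod_val β, hsc, Nat.cast_mul, Nat.cast_pow]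
    have hQs : Q s := by
      obtain ⟨u, hu⟩ := hu
      have := M.smul_mem (↑u⁻¹ : ZMod (p ^ n)) hwM
      rwa [smul_smul, hβ, ← hu, mul_left_comm, Units.inv_mul, mul_one] at this
    exact hβ ▸ (pow_dvd_pow _ (hymin s hQs)).mul_right _
  · rintro ⟨⟨a, ha⟩, ⟨b, hb⟩⟩
    have hv : v = a • m + b • ((p : ZMod (p ^ n)) ^ y • (f1, f2)) := by
      apply T.injective
      rw [map_add, map_smul, map_smul, map_smul, hTm]
      have hTf : T (f1, f2) = (0, 1) := by
        apply Prod.ext <;> simp only [T, LinearEquiv.coe_mk, LinearMap.coe_mk, AddHom.coe_mk, det2]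
        · ring
        · exact hef
      rw [hTf]
      apply Prod.ext <;> simp [ha, hb, mul_comm]
    rw [hv]
    exact M.add_mem (M.smul_mem _ hm) (M.smul_mem _ hy)

/-- the numerical shape of a submodule and its orthogonal -/
theorem shape_facts (hp : p.Prime) (M : Submodule (ZMod (p ^ n)) (V p n)) :
    ∃ x y : ℕ, x ≤ y ∧ y ≤ n ∧ Nat.card M = p ^ (n - x + (n - y)) ∧ Nat.card (perp M) = p ^ (x + y) ∧
      perp (perp M) = M ∧ (M ≤ perp M ↔ n ≤ x + y) ∧
      (M ≤ perp M → ∃ M', M ≤ M' ∧ Nat.card M' = p ^ n) := by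
  obtain ⟨T, x, y, hdet, hxy, hyn, hMT⟩ := exists_shape hp M
  have hM : M = (std x y).comap T.toLinearMap := by ext v; exact hMT v
  have hperp : ∀ N : Submodule (ZMod (p ^ n)) (V p n),
      perp (N.comap T.toLinearMap) = (perp N).comap T.toLinearMap := by
    intro N
    ext v
    rw [Submodule.mem_comap, mem_perp, mem_perp]
    constructor
    · intro h u hu
      have := h (T.symm u) (by simpa using hu)
      rwa [← hdet, T.apply_symm_apply] at this
    · intro h u hu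
      rw [← hdet]
      exact h _ hu
  have hcard : ∀ N : Submodule (ZMod (p ^ n)) (V p n), Nat.card (N.comap T.toLinearMap) = Nat.card N := fun N =>
    Nat.card_congr (T.toEquiv.subtypeEquiv fun v => Iff.rfl)
  have hxn : x ≤ n := hxy.trans hyn
  refine ⟨x, y, hxy, hyn, ?_, ?_, ?_, ?_, ?_⟩
  · rw [hM, hcard, card_std hp hxn hyn]
  · rw [hM, hperp, hcard, perp_std hp hxn hyn, card_std hp (Nat.sub_le n y) (Nat.sub_le n x),
      Nat.sub_sub_self hyn, Nat.sub_sub_self hxn, add_comm]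
  · rw [hM, hperp, hperp, perp_std hp hxn hyn, perp_std hp (Nat.sub_le n y) (Nat.sub_le n x),
      Nat.sub_sub_self hyn, Nat.sub_sub_self hxn]
  · rw [hM, hperp, perp_std hp hxn hyn]
    constructor
    · intro h
      have h2 : T.symm ((p : ZMod (p ^ n)) ^ x, 0) ∈ (std x y).comap T.toLinearMap := by
        simp [mem_std]
      have h3 := h h2
      simp only [Submodule.mem_comap, LinearEquiv.coe_coe, LinearEquiv.apply_symm_apply, mem_std] at h3
      have := pow_dvd_pow_zmod hp (Nat.sub_le n y) h3.1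
      omega
    · intro h
      refine Submodule.comap_mono fun v hv => ?_
      rw [mem_std] at hv ⊢
      exact ⟨(pow_dvd_pow _ (by omega)).trans hv.1, (pow_dvd_pow _ (by omega)).trans hv.2⟩
  · intro hiso
    have hxyn : n ≤ x + y := by
      rw [hM, hperp, perp_std hp hxn hyn] at hiso
      have h2 : T.symm ((p : ZMod (p ^ n)) ^ x, 0) ∈ (std x y).comap T.toLinearMap := by
        simp [mem_std]
      have h3 := hiso h2
      simp only [Submodule.mem_comap, LinearEquiv.coe_coe, LinearEquiv.apply_symm_apply, mem_std] at h3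
      have := pow_dvd_pow_zmod hp (Nat.sub_le n y) h3.1
      omega
    refine ⟨(std x (n - x)).comap T.toLinearMap, ?_, ?_⟩
    · rw [hM]
      refine Submodule.comap_mono fun v hv => ?_
      rw [mem_std] at hv ⊢
      exact ⟨hv.1, (pow_dvd_pow _ (by omega)).trans hv.2⟩
    · rw [hcard, card_std hp hxn (Nat.sub_le n x), Nat.sub_sub_self hxn, Nat.sub_add_cancel hxn]

theorem perp_perp (hp : p.Prime) (M : Submodule (ZMod (p ^ n)) (V p n)) : perp (perp M) = M := by
  obtain ⟨x, y, -, -, -, -, h, -, -⟩ := shape_facts hp M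
  exact h

theorem card_mul_card_perp (hp : p.Prime) (M : Submodule (ZMod (p ^ n)) (V p n)) :
    Nat.card M * Nat.card (perp M) = p ^ (2 * n) := by
  obtain ⟨x, y, hxy, hyn, h1, h2, -⟩ := shape_facts hp M
  rw [h1, h2, ← pow_add]; congr 1; omega

theorem le_perp_iff (hp : p.Prime) (M : Submodule (ZMod (p ^ n)) (V p n)) :
    M ≤ perp M ↔ Nat.card M ≤ p ^ n := by
  obtain ⟨x, y, hxy, hyn, h1, -, -, h2, -⟩ := shape_facts hp M
  rw [h1, h2, Nat.pow_le_pow_iff_right hp.one_lt]; omega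

theorem exists_ge_card_eq (hp : p.Prime) {M : Submodule (ZMod (p ^ n)) (V p n)} (hM : M ≤ perp M) :
    ∃ M', M ≤ M' ∧ Nat.card M' = p ^ n := by
  obtain ⟨x, y, -, -, -, -, -, -, h⟩ := shape_facts hp M
  exact h hM

theorem perp_le (hp : p.Prime) {M : Submodule (ZMod (p ^ n)) (V p n)} (hM : ¬ M ≤ perp M) : perp M ≤ M := by
  have h1 := card_mul_card_perp hp M
  rw [le_perp_iff hp, not_le] at hM
  have h2 : Nat.card (perp M) ≤ p ^ n := by
    by_contra h
    rw [two_mul, pow_add] at h1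
    exact absurd h1 (Nat.mul_lt_mul_of_lt_of_lt hM (not_le.mp h)).ne'
  exact ((le_perp_iff hp _).mpr h2).trans (perp_perp hp M).le

theorem card_univ_sub (hp : p.Prime) : Nat.card (V p n) = p ^ (2 * n) := by
  rw [Nat.card_prod, Nat.card_zmod, ← pow_add, two_mul]

end Cfsg.Agent.Lib.Metacyclic
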