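import Cfsg.Agent.Lib.Metacyclic.GeomSum
import Cfsg.Agent.Lib.Metacyclic.Plane
import Cfsg.Agent.Lib.PGroupFrattini
import Cfsg.Prelude.Def_OddOrderLocal

/-! Metacyclic `p`-groups, `p` odd: the map `φ : G → (ℤ/p^n)²` with kernel `Z(G)` under which commuting
is the vanishing of the determinant (`p^n = |G'|`). -/

set_option autoImplicit false

namespace Cfsg.Agent.Lib.Metacyclic

open Subgroup

/-- generators and parameters of an odd metacyclic `p`-group -/
structure Params (G : Type*) [Group G] (p : ℕ) where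
  a : G
  b : G
  r : ℤ
  n : ℕ
  isPGroup : IsPGroup p G
  odd : p ≠ 2
  conj : b * a * b⁻¹ = a ^ r
  cong : (p : ℤ) ∣ r - 1
  gen : ∀ g : G, ∃ (i : ℤ) (j : ℕ), g = a ^ i * b ^ j
  order_c : orderOf (a ^ (r - 1)) = p ^ n
  mem_zpowers : ∀ j : ℕ, b ^ j ∈ zpowers a → ((zpowers a).index ∣ j)

variable {G : Type*} [Group G] [Finite G] {p : ℕ} [hp : Fact p.Prime]

theorem exists_params (hp2 : p ≠ 2) (hG : IsPGroup p G) (hmc : Cfsg.IsMetacyclic G) :
    Nonempty (Params G p) := by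
  obtain ⟨N, hN, hNc, hQc⟩ := hmc
  obtain ⟨a, ha⟩ := (Subgroup.isCyclic_iff_exists_zpowers_eq_top N).mp hNc
  obtain ⟨bq, hbq⟩ := hQc.exists_generator
  obtain ⟨b, rfl⟩ := QuotientGroup.mk_surjective bq
  have haN : a ∈ N := ha ▸ mem_zpowers a
  obtain ⟨r, hr, hcong⟩ : ∃ r : ℤ, b * a * b⁻¹ = a ^ r ∧ (p : ℤ) ∣ r - 1 := by
    by_cases ha1 : a = 1
    · exact ⟨1, by simp [ha1], by simp⟩
    obtain ⟨r, hr⟩ := mem_zpowers_iff.mp (ha.symm ▸ hN.conj_mem a haN b : b * a * b⁻¹ ∈ zpowers a)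
    refine ⟨r, hr.symm, ?_⟩
    have hj : ∀ j : ℕ, b ^ j * a * (b ^ j)⁻¹ = a ^ (r ^ j) := by
      intro j
      induction j with
      | zero => simp
      | succ j ih =>
        calc b ^ (j + 1) * a * (b ^ (j + 1))⁻¹ = b * (b ^ j * a * (b ^ j)⁻¹) * b⁻¹ := by rw [pow_succ']; group
          _ = MulAut.conj b (a ^ (r ^ j)) := by rw [ih]; rfl
          _ = (b * a * b⁻¹) ^ (r ^ j) := by rw [map_zpow]; rfl
          _ = _ := by rw [← hr, ← zpow_mul, ← pow_succ']
    obtain ⟨e, he⟩ := IsPGroup.iff_orderOf.mp hG b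
    have h1 := hj (p ^ e)
    rw [← he, pow_orderOf_eq_one, one_mul, inv_one, mul_one] at h1
    have hdvd : (p : ℤ) ∣ r ^ orderOf b - 1 := by
      have h2 : a ^ (r ^ orderOf b - 1) = 1 := by rw [zpow_sub_one, ← h1, mul_inv_cancel]
      exact (Int.natCast_dvd_natCast.mpr (hG.dvd_orderOf ha1)).trans (orderOf_dvd_iff_zpow_eq_one.mpr h2)
    rw [he, ← ZMod.intCast_zmod_eq_zero_iff_dvd] at hdvd
    push_cast [ZMod.pow_card_pow] at hdvd
    rw [← ZMod.intCast_zmod_eq_zero_iff_dvd]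
    push_cast
    exact hdvd
  obtain ⟨n, hn⟩ := IsPGroup.iff_orderOf.mp hG (a ^ (r - 1))
  refine ⟨⟨a, b, r, n, hG, hp2, hr, hcong, fun g => ?_, hn, ?_⟩⟩
  · obtain ⟨j, hj⟩ := mem_zpowers_iff.mp (hbq (QuotientGroup.mk g))
    obtain ⟨j', hj'⟩ : ∃ j' : ℕ, b ^ j = b ^ j' := ⟨(j % (orderOf b : ℤ)).toNat, by
      rw [← zpow_natCast, Int.toNat_of_nonneg (Int.emod_nonneg _ (by simpa using (orderOf_pos b).ne')), zpow_mod_orderOf]⟩
    have : g * (b ^ j')⁻¹ ∈ N := by
      rw [← QuotientGroup.eq_one_iff, QuotientGroup.mk_mul, QuotientGroup.mk_inv, ← hj', QuotientGroup.mk_zpow, hj, mul_inv_cancel]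
    rw [← ha, mem_zpowers_iff] at this
    obtain ⟨i, hi⟩ := this
    exact ⟨i, j', by rw [hi, inv_mul_cancel_right]⟩
  · intro j hj
    subst ha
    have horder : orderOf (QuotientGroup.mk b : G ⧸ zpowers a) = (zpowers a).index := by
      rw [index_eq_card]; exact orderOf_eq_card_of_forall_mem_zpowers hbq
    rw [← horder, orderOf_dvd_iff_pow_eq_one, ← QuotientGroup.mk_pow, QuotientGroup.eq_one_iff]
    exact hj

omit [Finite G] hp in
theorem isMetacyclic_subgroup (hmc : Cfsg.IsMetacyclic G) (H : Subgroup G) : Cfsg.IsMetacyclic H := by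
  obtain ⟨N, hN, hNc, hQc⟩ := hmc
  refine ⟨N.subgroupOf H, inferInstance, ?_, ?_⟩
  · let f : ↥(N.subgroupOf H) →* ↥N :=
      { toFun := fun x => ⟨x.1.1, x.2⟩, map_one' := rfl, map_mul' := fun _ _ => rfl }
    exact isCyclic_of_injective f fun x y h => Subtype.ext (Subtype.ext (congrArg (fun z : ↥N => (z : G)) h))
  · refine isCyclic_of_injective (QuotientGroup.lift (N.subgroupOf H) ((QuotientGroup.mk' N).comp H.subtype)
      (fun x hx => (QuotientGroup.eq_one_iff _).mpr hx)) ?_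
    rw [← MonoidHom.ker_eq_bot_iff, eq_bot_iff]
    intro x hx
    obtain ⟨x, rfl⟩ := QuotientGroup.mk_surjective x
    rw [MonoidHom.mem_ker] at hx
    rw [mem_bot, QuotientGroup.eq_one_iff]
    exact (QuotientGroup.eq_one_iff (N := N) (x : G)).mp hx

namespace Params

variable (D : Params G p)

omit [Finite G] hp in
theorem conj_pow (j : ℕ) (i : ℤ) : D.b ^ j * D.a ^ i = D.a ^ (D.r ^ j * i) * D.b ^ j := by
  induction j generalizing i with
  | zero => simp
  | succ j ih =>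
    have h : D.b * D.a ^ (D.r ^ j * i) = D.a ^ (D.r ^ (j + 1) * i) * D.b := by
      rw [← mul_inv_eq_iff_eq_mul]
      calc D.b * D.a ^ (D.r ^ j * i) * D.b⁻¹ = MulAut.conj D.b (D.a ^ (D.r ^ j * i)) := rfl
        _ = (D.b * D.a * D.b⁻¹) ^ (D.r ^ j * i) := by rw [map_zpow]; rfl
        _ = _ := by rw [D.conj, ← zpow_mul, pow_succ', mul_assoc]
    calc D.b ^ (j + 1) * D.a ^ i = D.b * (D.b ^ j * D.a ^ i) := by rw [pow_succ', mul_assoc]
      _ = D.b * D.a ^ (D.r ^ j * i) * D.b ^ j := by rw [ih, mul_assoc]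
      _ = _ := by rw [h, mul_assoc, ← pow_succ']

omit [Finite G] hp in
theorem mul_form (i k : ℤ) (j l : ℕ) :
    (D.a ^ i * D.b ^ j) * (D.a ^ k * D.b ^ l) = D.a ^ (i + D.r ^ j * k) * D.b ^ (j + l) := by
  rw [zpow_add, pow_add, mul_assoc (D.a ^ i), ← mul_assoc (D.b ^ j), D.conj_pow]
  simp only [mul_assoc]

omit [Finite G] hp in
theorem c_zpow_eq_one_iff (x : ℤ) : (D.a ^ (D.r - 1)) ^ x = 1 ↔ (x : ZMod (p ^ D.n)) = 0 := by
  rw [← orderOf_dvd_iff_zpow_eq_one, D.order_c, ZMod.intCast_zmod_eq_zero_iff_dvd]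

omit [Finite G] hp in
theorem comm_iff_form (i k : ℤ) (j l : ℕ) :
    (D.a ^ i * D.b ^ j) * (D.a ^ k * D.b ^ l) = (D.a ^ k * D.b ^ l) * (D.a ^ i * D.b ^ j) ↔
      det2 (p := p) (n := D.n) ((i : ZMod _), (F D.r j : ZMod _)) ((k : ZMod _), (F D.r l : ZMod _)) = 0 := by
  rw [D.mul_form, D.mul_form, add_comm l j, mul_left_inj, ← mul_inv_eq_one (a := D.a ^ (i + D.r ^ j * k)),
    ← zpow_neg, ← zpow_add,
    show i + D.r ^ j * k + -(k + D.r ^ l * i) = (D.r - 1) * (F D.r j * k - F D.r l * i) by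
      linear_combination -k * sub_one_mul_F D.r j + i * sub_one_mul_F D.r l,
    zpow_mul, D.c_zpow_eq_one_iff]
  push_cast [det2]
  constructor <;> intro h <;> linear_combination -h

omit [Finite G] hp in
theorem coord_unique {i k : ℤ} {j l : ℕ} (h : D.a ^ i * D.b ^ j = D.a ^ k * D.b ^ l) :
    ((i : ZMod (p ^ D.n)), (F D.r j : ZMod (p ^ D.n))) = ((k : ZMod _), (F D.r l : ZMod _)) := by
  have hc : ∀ (x : ℤ) (y : ℕ) (u : ℤ) (v : ℕ),
      ((D.a ^ x * D.b ^ y) * (D.a ^ u * D.b ^ v)) * ((D.a ^ u * D.b ^ v) * (D.a ^ x * D.b ^ y))⁻¹ =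
        (D.a ^ (D.r - 1)) ^ (F D.r y * u - F D.r v * x) := by
    intro x y u v
    rw [D.mul_form, D.mul_form, add_comm v y, mul_inv_rev, mul_assoc, mul_inv_cancel_left, ← zpow_neg, ← zpow_add,
      ← zpow_mul]
    congr 1
    linear_combination -u * sub_one_mul_F D.r y + x * sub_one_mul_F D.r v
  have e1 : (D.a ^ (D.r - 1)) ^ (F D.r j * (1 : ℤ) - F D.r 0 * i) = (D.a ^ (D.r - 1)) ^ (F D.r l * (1 : ℤ) - F D.r 0 * k) := by
    rw [← hc, ← hc, h]
  have e2 : (D.a ^ (D.r - 1)) ^ (F D.r j * (0 : ℤ) - F D.r 1 * i) = (D.a ^ (D.r - 1)) ^ (F D.r l * (0 : ℤ) - F D.r 1 * k) := by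
    rw [← hc, ← hc, h]
  rw [← mul_inv_eq_one, ← zpow_neg, ← zpow_add, D.c_zpow_eq_one_iff] at e1 e2
  simp only [F_zero, F_one] at e1 e2
  push_cast at e1 e2
  apply Prod.ext
  · linear_combination -e2
  · linear_combination e1

/-- the `a`-exponent of an element -/
noncomputable def ei (g : G) : ℤ := (D.gen g).choose

/-- the `b`-exponent of an element -/
noncomputable def ej (g : G) : ℕ := (D.gen g).choose_spec.choose

omit [Finite G] hp in
theorem eq_form (g : G) : g = D.a ^ D.ei g * D.b ^ D.ej g := (D.gen g).choose_spec.choose_spec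

/-- the coordinate map -/
noncomputable def phi (g : G) : V p D.n := ((D.ei g : ZMod _), (F D.r (D.ej g) : ZMod _))

/-- an integer representing the multiplier -/
noncomputable def chiInt (g : G) : ℤ := D.r ^ D.ej g

/-- the multiplier -/
noncomputable def chi (g : G) : ZMod (p ^ D.n) := (D.chiInt g : ℤ)

omit [Finite G] hp in
theorem phi_form (i : ℤ) (j : ℕ) :
    D.phi (D.a ^ i * D.b ^ j) = ((i : ZMod _), (F D.r j : ZMod _)) :=
  D.coord_unique (D.eq_form _).symm

omit [Finite G] hp in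
theorem phi_mul (g h : G) : D.phi (g * h) = D.phi g + D.chi g • D.phi h := by
  conv_lhs => rw [D.eq_form g, D.eq_form h, D.mul_form, D.phi_form, F_add]
  apply Prod.ext <;> simp [phi, chi, chiInt]

omit [Finite G] in
theorem chi_isUnit (g : G) : IsUnit (D.chi g) := by
  obtain ⟨t, ht⟩ := pow_sub_one_dvd D.cong (D.ej g)
  obtain ⟨u, v, huv⟩ := IsCoprime.pow_right (n := D.n) (show IsCoprime (D.chiInt g) (p : ℤ) from
    ⟨1, -t, by rw [chiInt]; linear_combination ht⟩)
  have h := congrArg (fun z : ℤ => (z : ZMod (p ^ D.n))) huv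
  push_cast at h
  rw [← Nat.cast_pow, ZMod.natCast_self, mul_zero, add_zero] at h
  exact IsUnit.of_mul_eq_one_right _ h

omit [Finite G] hp in
theorem commute_iff (g h : G) : g * h = h * g ↔ det2 (D.phi g) (D.phi h) = 0 := by
  conv_lhs => rw [D.eq_form g, D.eq_form h]
  exact D.comm_iff_form _ _ _ _

omit [Finite G] hp in
theorem phi_a : D.phi D.a = (1, 0) := by
  have := D.phi_form 1 0
  simpa [F_zero] using this

omit [Finite G] hp in
theorem phi_b : D.phi D.b = (0, 1) := by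
  have := D.phi_form 0 1
  simpa [F_one] using this

omit [Finite G] hp in
theorem phi_eq_zero_iff (g : G) : D.phi g = 0 ↔ g ∈ center G := by
  rw [mem_center_iff]
  constructor
  · intro h x
    rw [D.commute_iff, h]
    simp [det2]
  · intro h
    have h1 := (D.commute_iff _ _).mp (h D.a)
    have h2 := (D.commute_iff _ _).mp (h D.b)
    rw [D.phi_a] at h1
    rw [D.phi_b] at h2
    simp [det2] at h1 h2
    exact Prod.ext h2 h1

omit [Finite G] hp in
theorem phi_one : D.phi 1 = 0 := (D.phi_eq_zero_iff 1).mpr (one_mem _)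

omit [Finite G] hp in
theorem phi_pow (g : G) (k : ℕ) : D.phi (g ^ k) = (F (D.chiInt g) k : ZMod (p ^ D.n)) • D.phi g := by
  induction k with
  | zero => simp [F_zero, D.phi_one]
  | succ k ih =>
    rw [pow_succ', D.phi_mul, ih, F_succ, smul_smul]
    push_cast [chi]
    rw [add_smul, one_smul]

omit [Finite G] hp in
theorem phi_mul_center (g : G) {z : G} (hz : z ∈ center G) : D.phi (g * z) = D.phi g := by
  rw [D.phi_mul, (D.phi_eq_zero_iff z).mpr hz, smul_zero, add_zero]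

omit [Finite G] in
theorem phi_eq_iff (g h : G) : D.phi g = D.phi h ↔ g⁻¹ * h ∈ center G := by
  constructor
  · intro e
    rw [← D.phi_eq_zero_iff]
    have := D.phi_mul g (g⁻¹ * h)
    rw [mul_inv_cancel_left, ← e, left_eq_add] at this
    exact (D.chi_isUnit g).smul_eq_zero.mp this
  · intro hz
    conv_rhs => rw [← mul_inv_cancel_left g h, D.phi_mul_center g hz]

omit [Finite G] in
theorem phi_surjective : Function.Surjective D.phi := by
  rintro ⟨u, v⟩
  obtain ⟨i, rfl⟩ := ZMod.intCast_surjective u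
  obtain ⟨j, -, hj⟩ := F_surjective hp.out D.odd D.cong D.n v
  exact ⟨D.a ^ i * D.b ^ j, by rw [D.phi_form, hj]⟩

omit [Finite G] in
theorem exists_pow_eq_smul (g : G) (t : ZMod (p ^ D.n)) : ∃ k : ℕ, D.phi (g ^ k) = t • D.phi g := by
  obtain ⟨k, -, hk⟩ := F_surjective hp.out D.odd (r := D.chiInt g) (pow_sub_one_dvd D.cong _) D.n t
  exact ⟨k, by rw [D.phi_pow, hk]⟩

/-- the image of a subgroup is a submodule -/
noncomputable def img (L : Subgroup G) : Submodule (ZMod (p ^ D.n)) (V p D.n) where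
  carrier := D.phi '' L
  add_mem' := by
    rintro _ _ ⟨g, hg, rfl⟩ ⟨h, hh, rfl⟩
    obtain ⟨u, hu⟩ := D.chi_isUnit g
    obtain ⟨k, hk⟩ := D.exists_pow_eq_smul h (↑u⁻¹)
    exact ⟨g * h ^ k, mul_mem hg (pow_mem hh k), by
      rw [D.phi_mul, hk, smul_smul, ← hu, Units.mul_inv, one_smul]⟩
  zero_mem' := ⟨1, one_mem L, D.phi_one⟩
  smul_mem' := by
    rintro t _ ⟨g, hg, rfl⟩
    obtain ⟨k, hk⟩ := D.exists_pow_eq_smul g t
    exact ⟨g ^ k, pow_mem hg k, hk⟩

omit [Finite G] in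
theorem mem_img {L : Subgroup G} {v : V p D.n} : v ∈ D.img L ↔ ∃ g ∈ L, D.phi g = v := Iff.rfl

/-- the preimage of a submodule is a subgroup -/
noncomputable def pre (M : Submodule (ZMod (p ^ D.n)) (V p D.n)) : Subgroup G where
  carrier := {g | D.phi g ∈ M}
  mul_mem' := fun {g h} hg hh => by
    simp only [Set.mem_setOf_eq] at hg hh ⊢
    rw [D.phi_mul]; exact M.add_mem hg (M.smul_mem _ hh)
  one_mem' := by simp only [Set.mem_setOf_eq, D.phi_one]; exact M.zero_mem
  inv_mem' := fun {g} hg => by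
    simp only [Set.mem_setOf_eq] at hg ⊢
    obtain ⟨u, hu⟩ := D.chi_isUnit g
    have h := D.phi_mul g g⁻¹
    rw [mul_inv_cancel, D.phi_one, ← hu] at h
    have : D.phi g⁻¹ = (↑u⁻¹ : ZMod (p ^ D.n)) • (-D.phi g) := by
      rw [neg_eq_of_add_eq_zero_right h.symm, smul_smul, Units.inv_mul, one_smul]
    rw [this]; exact M.smul_mem _ (M.neg_mem hg)

omit [Finite G] in
theorem mem_pre {M : Submodule (ZMod (p ^ D.n)) (V p D.n)} {g : G} : g ∈ D.pre M ↔ D.phi g ∈ M := Iff.rfl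

omit [Finite G] in
theorem center_le_pre (M : Submodule (ZMod (p ^ D.n)) (V p D.n)) : center G ≤ D.pre M := fun z hz => by
  rw [mem_pre, (D.phi_eq_zero_iff z).mpr hz]; exact M.zero_mem

omit [Finite G] in
theorem img_pre (M : Submodule (ZMod (p ^ D.n)) (V p D.n)) : D.img (D.pre M) = M := by
  ext v
  refine ⟨fun ⟨g, hg, hgv⟩ => hgv ▸ hg, fun hv => ?_⟩
  obtain ⟨g, rfl⟩ := D.phi_surjective v
  exact ⟨g, hv, rfl⟩

omit [Finite G] in
theorem pre_img {L : Subgroup G} (h : center G ≤ L) : D.pre (D.img L) = L := by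
  ext g
  refine ⟨fun ⟨h', hh', e⟩ => ?_, fun hg => ⟨g, hg, rfl⟩⟩
  have := mul_mem hh' (h ((D.phi_eq_iff h' g).mp e))
  rwa [mul_inv_cancel_left] at this

omit [Finite G] in
theorem card_subgroup (L : Subgroup G) : Nat.card L = Nat.card ↥(L ⊓ center G) * Nat.card (D.img L) := by
  classical
  rw [← Nat.card_prod]
  let s : D.img L → G := fun v => (D.mem_img.mp v.2).choose
  have hs : ∀ v, s v ∈ L ∧ D.phi (s v) = v := fun v => (D.mem_img.mp v.2).choose_spec
  let f : ↥(L ⊓ center G) × D.img L → L := fun x => ⟨s x.2 * x.1, mul_mem (hs x.2).1 x.1.2.1⟩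
  refine (Nat.card_congr (Equiv.ofBijective f ⟨?_, ?_⟩)).symm
  · rintro ⟨z, v⟩ ⟨z', v'⟩ h
    have h' : s v * z = s v' * z' := congrArg Subtype.val h
    have hv : v = v' := by
      apply Subtype.ext
      have := congrArg D.phi h'
      rw [D.phi_mul_center _ z.2.2, D.phi_mul_center _ z'.2.2] at this
      exact ((hs v).2.symm.trans this).trans (hs v').2
    subst hv
    exact Prod.ext (Subtype.ext (mul_left_cancel h')) rfl
  · intro l
    let v : D.img L := ⟨D.phi l, ⟨l, l.2, rfl⟩⟩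
    exact ⟨(⟨(s v)⁻¹ * l, ⟨L.mul_mem (L.inv_mem (hs v).1) l.2, (D.phi_eq_iff _ _).mp (hs v).2⟩⟩, v),
      Subtype.ext (mul_inv_cancel_left _ _)⟩

omit [Finite G] in
theorem card_pre (M : Submodule (ZMod (p ^ D.n)) (V p D.n)) :
    Nat.card (D.pre M) = Nat.card ↥(center G) * Nat.card M := by
  rw [D.card_subgroup, D.img_pre, inf_eq_right.mpr (D.center_le_pre M)]

omit [Finite G] in
theorem card_group : Nat.card G = Nat.card ↥(center G) * p ^ (2 * D.n) := by
  have h : D.pre ⊤ = ⊤ := by ext; simp [mem_pre]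
  rw [← card_top (G := G), ← h, D.card_pre, ← card_univ_sub hp.out]
  congr 1
  exact Nat.card_congr (Equiv.subtypeUnivEquiv fun _ => trivial)

theorem index_center : (center G).index = p ^ (2 * D.n) := by
  have := (center G).card_mul_index
  rw [D.card_group] at this
  exact Nat.eq_of_mul_eq_mul_left Nat.card_pos this

omit [Finite G] in
theorem centralizer_eq (L : Subgroup G) : centralizer (L : Set G) = D.pre (perp (D.img L)) := by
  ext g
  rw [mem_centralizer_iff, mem_pre, mem_perp]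
  constructor
  · rintro h _ ⟨x, hx, rfl⟩
    exact (D.commute_iff g x).mp (h x hx).symm
  · intro h x hx
    exact ((D.commute_iff g x).mpr (h _ ⟨x, hx, rfl⟩)).symm

omit [Finite G] in
theorem centralizer_singleton (g : G) :
    centralizer ({g} : Set G) = D.pre (perp (Submodule.span _ {D.phi g})) := by
  ext x
  rw [mem_centralizer_singleton_iff, mem_pre, perp_span_singleton, ← D.commute_iff]

omit [Finite G] in
theorem isMulCommutative_iff (L : Subgroup G) : IsMulCommutative L ↔ D.img L ≤ perp (D.img L) := by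
  constructor
  · rintro h _ ⟨x, hx, rfl⟩ _ ⟨y, hy, rfl⟩
    exact (D.commute_iff x y).mp (congrArg Subtype.val (h.1.1 ⟨x, hx⟩ ⟨y, hy⟩))
  · intro h
    exact ⟨⟨fun x y => Subtype.ext ((D.commute_iff x y).mpr (h ⟨x, x.2, rfl⟩ _ ⟨y, y.2, rfl⟩))⟩⟩

omit [Finite G] hp in
theorem commutator_eq : commutator G = zpowers (D.a ^ (D.r - 1)) := by
  apply le_antisymm
  · rw [commutator_def, commutator_le]
    intro g _ h _
    rw [D.eq_form g, D.eq_form h]
    generalize D.ei g = i, D.ej g = j, D.ei h = k, D.ej h = l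
    refine mem_zpowers_iff.mpr ⟨F D.r j * k - F D.r l * i, ?_⟩
    rw [commutatorElement_def, mul_assoc (_ * _) _⁻¹, ← mul_inv_rev, D.mul_form, D.mul_form, add_comm l j, mul_inv_rev,
      mul_assoc, mul_inv_cancel_left, ← zpow_neg, ← zpow_add, ← zpow_mul]
    congr 1
    linear_combination k * sub_one_mul_F D.r j - i * sub_one_mul_F D.r l
  · rw [zpowers_le, zpow_sub_one, ← D.conj]
    exact commutator_mem_commutator (mem_top D.b) (mem_top D.a)

omit [Finite G] hp in
theorem card_commutator : Nat.card (commutator G) = p ^ D.n := by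
  rw [D.commutator_eq, Nat.card_zpowers, D.order_c]

theorem index_commutator : (commutator G).index = Nat.card ↥(center G) * p ^ D.n := by
  have := (commutator G).card_mul_index
  rw [D.card_commutator, D.card_group, two_mul, pow_add, mul_comm (Nat.card _), mul_assoc] at this
  rw [mul_comm]
  exact Nat.eq_of_mul_eq_mul_left (pow_pos hp.out.pos _) (this.trans (by ring))

omit [Finite G] in
theorem center_le_powers {s : ℕ} (hs : s ≤ D.n) :
    center G ≤ closure {x : G | ∃ y : G, y ^ p ^ s = x} := by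
  intro z hz
  have h := (D.phi_eq_zero_iff z).mpr hz
  rw [Prod.ext_iff] at h
  obtain ⟨h1, h2⟩ := h
  simp only [phi, Prod.fst_zero, Prod.snd_zero, ZMod.intCast_zmod_eq_zero_iff_dvd, Nat.cast_pow] at h1 h2
  rw [pow_dvd_F_iff hp.out D.odd D.n D.cong] at h2
  obtain ⟨i, hi⟩ := (pow_dvd_pow (p : ℤ) hs).trans h1
  obtain ⟨j, hj⟩ := (pow_dvd_pow p hs).trans h2
  rw [D.eq_form z]
  refine mul_mem (subset_closure ⟨D.a ^ i, ?_⟩) (subset_closure ⟨D.b ^ j, ?_⟩)
  · rw [← zpow_natCast, ← zpow_mul, hi, Nat.cast_pow, mul_comm]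
  · rw [← pow_mul, hj, mul_comm]

include D in
theorem closure_powers_le_frattini {s : ℕ} (hs : 1 ≤ s) :
    closure {x : G | ∃ y : G, y ^ p ^ s = x} ≤ frattini G := by
  rw [closure_le]
  rintro _ ⟨y, rfl⟩
  obtain ⟨t, rfl⟩ := Nat.exists_eq_add_of_le hs
  rw [pow_add, pow_one, mul_comm, pow_mul]
  exact PGroupFrattini.pow_mem_frattini D.isPGroup _

theorem center_le_frattini (hn : 1 ≤ D.n) : center G ≤ frattini G :=
  (D.center_le_powers hn).trans (D.closure_powers_le_frattini le_rfl)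

end Params

theorem center_le_of_not_comm_aux : ∀ (N : ℕ) {G : Type*} [Group G] [Finite G], Nat.card G ≤ N → p ≠ 2 → IsPGroup p G →
    Cfsg.IsMetacyclic G → ∀ L : Subgroup G, ¬ IsMulCommutative L → center G ≤ L := by
  intro N
  induction N with
  | zero => intro G _ _ h; exact absurd h (Nat.not_le.mpr Nat.card_pos)
  | succ N ih =>
    intro G _ _ hN hp2 hG hmc L hL
    rcases eq_top_or_exists_le_coatom L with rfl | ⟨H, hH, hLH⟩
    · exact le_top
    obtain ⟨D⟩ := exists_params hp2 hG hmc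
    have hn : 1 ≤ D.n := by
      by_contra h
      have h0 : (center G).index = 1 := by rw [D.index_center, show D.n = 0 by omega]; simp
      rw [index_eq_one] at h0
      exact hL ⟨⟨fun x y => Subtype.ext ((mem_center_iff.mp (h0 ▸ mem_top (x : G) : (x : G) ∈ center G)) y).symm⟩⟩
    have hZH : center G ≤ H := (D.center_le_frattini hn).trans (frattini_le_coatom hH)
    have hlt : Nat.card H < Nat.card G := lt_of_le_of_ne (card_le_card_group H) (fun h => hH.1 (eq_top_of_card_eq H h))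
    have hna : ¬ IsMulCommutative (L.subgroupOf H) := fun h => hL ⟨⟨fun x y => Subtype.ext
      (congrArg (fun z : ↥(L.subgroupOf H) => ((z : ↥H) : G)) (h.1.1 ⟨⟨x, hLH x.2⟩, x.2⟩ ⟨⟨y, hLH y.2⟩, y.2⟩))⟩⟩
    intro z hz
    exact ih (by omega) hp2 (hG.to_subgroup H) (isMetacyclic_subgroup hmc H) _ hna
      (show (⟨z, hZH hz⟩ : ↥H) ∈ center ↥H from mem_center_iff.mpr fun x => Subtype.ext (mem_center_iff.mp hz x))

namespace Params

variable (D : Params G p)

include D in
omit [Finite G] hp in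
theorem isMetacyclic : Cfsg.IsMetacyclic G := by
  have hn : (zpowers D.a).Normal := by
    refine ⟨fun x hx g => ?_⟩
    obtain ⟨k, rfl⟩ := mem_zpowers_iff.mp hx
    refine mem_zpowers_iff.mpr ⟨D.r ^ D.ej g * k, ?_⟩
    conv_rhs => rw [D.eq_form g]
    rw [mul_inv_rev, mul_assoc (D.a ^ D.ei g), D.conj_pow]
    group
  refine ⟨zpowers D.a, hn, inferInstance, ⟨⟨QuotientGroup.mk D.b, fun q => ?_⟩⟩⟩
  obtain ⟨g, rfl⟩ := QuotientGroup.mk_surjective q
  refine mem_zpowers_iff.mpr ⟨D.ej g, ?_⟩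
  rw [zpow_natCast, ← QuotientGroup.mk_pow, QuotientGroup.eq]
  have : g = D.a ^ D.ei g * D.b ^ D.ej g := D.eq_form g
  rw [show (D.b ^ D.ej g)⁻¹ * g = (D.b ^ D.ej g)⁻¹ * D.a ^ D.ei g * (D.b ^ D.ej g) by
    rw [mul_assoc, ← this]]
  have := hn.conj_mem _ (mem_zpowers_iff.mpr ⟨D.ei g, rfl⟩) (D.b ^ D.ej g)⁻¹
  rwa [inv_inv] at this

include D in
theorem center_le_of_not_comm {L : Subgroup G} (hL : ¬ IsMulCommutative L) : center G ≤ L :=
  center_le_of_not_comm_aux _ le_rfl D.odd D.isPGroup D.isMetacyclic L hL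

/-- a subgroup is abelian iff its order is at most `|Z(G)| p^n = |G : G'|` -/
theorem isMulCommutative_iff_card (L : Subgroup G) :
    IsMulCommutative L ↔ Nat.card L ≤ Nat.card ↥(center G) * p ^ D.n := by
  constructor
  · intro h
    rw [D.card_subgroup]
    exact Nat.mul_le_mul (card_le_of_le inf_le_right)
      ((le_perp_iff hp.out _).mp ((D.isMulCommutative_iff L).mp h))
  · intro h
    by_contra hna
    have hlt : ¬ Nat.card (D.img L) ≤ p ^ D.n := fun h' =>
      hna ((D.isMulCommutative_iff L).mpr ((le_perp_iff hp.out _).mpr h'))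
    rw [D.card_subgroup, inf_eq_right.mpr (D.center_le_of_not_comm hna)] at h
    exact hlt (Nat.le_of_mul_le_mul_left h Nat.card_pos)

theorem maximal_abelian_iff (L : Subgroup G) :
    Maximal (fun K : Subgroup G => IsMulCommutative ↥K) L ↔ Nat.card L = Nat.card ↥(center G) * p ^ D.n := by
  constructor
  · intro h
    have h1 := (D.isMulCommutative_iff L).mp h.prop
    obtain ⟨M', hM, hcard⟩ := exists_ge_card_eq hp.out h1
    have hab : IsMulCommutative ↥(D.pre M') := by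
      rw [D.isMulCommutative_iff_card, D.card_pre, hcard]
    have hLP : L ≤ D.pre M' := fun g hg => hM ⟨g, hg, rfl⟩
    rw [le_antisymm hLP (h.le_of_ge hab hLP), D.card_pre, hcard]
  · intro h
    exact ⟨(D.isMulCommutative_iff_card L).mpr h.le, fun K hK hLK =>
      (eq_of_le_of_card_ge hLK (h ▸ (D.isMulCommutative_iff_card K).mp hK)).ge⟩

/-- `℧_s(G)` -/
theorem closure_powers_eq {s : ℕ} (hs : s ≤ D.n) :
    closure {x : G | ∃ y : G, y ^ p ^ s = x} = D.pre (std s s) := by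
  apply le_antisymm
  · rw [closure_le]
    rintro _ ⟨y, rfl⟩
    show D.phi (y ^ p ^ s) ∈ std s s
    rw [D.phi_pow, mem_std]
    obtain ⟨c, hc⟩ := (pow_dvd_F_iff hp.out D.odd s (r := D.chiInt y) (pow_sub_one_dvd D.cong _) (p ^ s)).mpr dvd_rfl
    rw [hc]
    push_cast
    exact ⟨⟨_, mul_assoc _ _ _⟩, ⟨_, mul_assoc _ _ _⟩⟩
  · have hle := D.center_le_powers hs
    rw [← D.pre_img hle]
    intro g hg
    obtain ⟨⟨u, hu⟩, ⟨v, hv⟩⟩ := mem_std.mp (D.mem_pre.mp hg)
    rw [mem_pre]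
    obtain ⟨y, hy⟩ := D.phi_surjective (u, v)
    -- `F (χ y) (p^s) = p^s * unit`
    obtain ⟨c, hc⟩ := (pow_dvd_F_iff hp.out D.odd s (r := D.chiInt y) (pow_sub_one_dvd D.cong _) (p ^ s)).mpr dvd_rfl
    have hcu : IsUnit (c : ZMod (p ^ D.n)) := by
      have hcp : ¬ (p : ℤ) ∣ c := by
        rintro ⟨d, rfl⟩
        have h2 := (pow_dvd_F_iff hp.out D.odd (s + 1) (r := D.chiInt y) (pow_sub_one_dvd D.cong _) (p ^ s)).mp
          ⟨d, by rw [hc, pow_succ]; ring⟩
        rw [Nat.pow_dvd_pow_iff_le_right hp.out.one_lt] at h2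
        omega
      obtain ⟨x, z, hxz⟩ := (((Nat.prime_iff_prime_int (p := p)).mp hp.out).coprime_iff_not_dvd.mpr hcp).symm.pow_right (n := D.n)
      have h := congrArg (fun w : ℤ => (w : ZMod (p ^ D.n))) hxz
      push_cast at h
      rw [← Nat.cast_pow, ZMod.natCast_self, mul_zero, add_zero] at h
      exact IsUnit.of_mul_eq_one_right _ h
    obtain ⟨cu, hcu⟩ := hcu
    have hmem : D.phi (y ^ p ^ s) ∈ D.img (closure {x : G | ∃ y : G, y ^ p ^ s = x}) :=
      ⟨_, subset_closure ⟨y, rfl⟩, rfl⟩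
    have := (D.img (closure {x : G | ∃ y : G, y ^ p ^ s = x})).smul_mem (↑cu⁻¹ : ZMod (p ^ D.n)) hmem
    convert this using 1
    rw [D.phi_pow, hc, smul_smul, hy]
    push_cast
    rw [← hcu, mul_left_comm, Units.inv_mul, mul_one]
    exact Prod.ext (by simpa using hu) (by simpa using hv)

end Params

end Cfsg.Agent.Lib.Metacyclic
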