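import Mathlib

/-! Geometric sums `F r k = 1 + r + ⋯ + r^(k-1)` over `ℤ` for `r ≡ 1 (mod p)`, `p` odd. -/

set_option autoImplicit false

namespace Cfsg.Agent.Lib.Metacyclic

open Finset

/-- `1 + r + ⋯ + r^(k-1)` -/
def F (r : ℤ) (k : ℕ) : ℤ := ∑ i ∈ range k, r ^ i

theorem F_zero (r : ℤ) : F r 0 = 0 := rfl

theorem F_one (r : ℤ) : F r 1 = 1 := by simp [F]

theorem F_add (r : ℤ) (j k : ℕ) : F r (j + k) = F r j + r ^ j * F r k := by
  simp only [F, sum_range_add, mul_sum, pow_add]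

theorem F_succ (r : ℤ) (k : ℕ) : F r (k + 1) = 1 + r * F r k := by
  rw [add_comm k 1, F_add, F_one, pow_one]

theorem sub_one_mul_F (r : ℤ) (k : ℕ) : (r - 1) * F r k = r ^ k - 1 := by
  rw [mul_comm]; exact geom_sum_mul r k

theorem F_mul (r : ℤ) (j k : ℕ) : F r (j * k) = F r j * F (r ^ j) k := by
  induction k with
  | zero => simp [F_zero]
  | succ k ih => rw [Nat.mul_succ, add_comm, F_add, ih, F_succ (r ^ j) k]; ring

variable {p : ℕ}

theorem pow_sub_one_dvd {r : ℤ} {d : ℤ} (hr : d ∣ r - 1) (j : ℕ) : d ∣ r ^ j - 1 :=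
  hr.trans ⟨F r j, (sub_one_mul_F r j).symm⟩

theorem F_sub_dvd {r : ℤ} (hr : (p : ℤ) ∣ r - 1) (k : ℕ) : (p : ℤ) ∣ F r k - k := by
  have : F r k - k = ∑ i ∈ range k, (r ^ i - 1) := by simp [F, sum_sub_distrib]
  rw [this]
  exact dvd_sum fun i _ => pow_sub_one_dvd hr i

theorem sq_dvd_F_prime_sub (hp : p.Prime) (hp2 : p ≠ 2) {r : ℤ} (hr : (p : ℤ) ∣ r - 1) :
    (p : ℤ) ^ 2 ∣ F r p - p := by
  have h1 : ∀ i : ℕ, (p : ℤ) ^ 2 ∣ r ^ i - 1 - i * (r - 1) := by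
    intro i
    induction i with
    | zero => simp
    | succ i ih =>
      have h2 : r ^ (i + 1) - 1 - ((i + 1 : ℕ) : ℤ) * (r - 1) =
          r * (r ^ i - 1 - (i : ℤ) * (r - 1)) + (i : ℤ) * ((r - 1) * (r - 1)) := by push_cast; ring
      rw [h2]
      exact dvd_add (dvd_mul_of_dvd_right ih _) (dvd_mul_of_dvd_right (pow_two (p : ℤ) ▸ mul_dvd_mul hr hr) _)
  have h3 : F r p - p = ∑ i ∈ range p, (r ^ i - 1 - (i : ℤ) * (r - 1)) + (∑ i ∈ range p, (i : ℤ)) * (r - 1) := by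
    rw [sum_sub_distrib, sum_sub_distrib, sum_mul]; simp [F]
  rw [h3]
  refine dvd_add (dvd_sum fun i _ => h1 i) ?_
  rw [pow_two]
  refine mul_dvd_mul ?_ hr
  rw [← Nat.cast_sum, Int.natCast_dvd_natCast]
  exact (((Nat.coprime_primes hp Nat.prime_two).mpr hp2).dvd_mul_right).mp
    ⟨p - 1, by rw [sum_range_id_mul_two]⟩

theorem pow_dvd_F_iff (hp : p.Prime) (hp2 : p ≠ 2) : ∀ (n : ℕ) {r : ℤ}, (p : ℤ) ∣ r - 1 → ∀ d : ℕ,
    ((p : ℤ) ^ n ∣ F r d ↔ p ^ n ∣ d) := by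
  intro n
  induction n with
  | zero => simp
  | succ n ih =>
    intro r hr d
    by_cases hd : p ∣ d
    · obtain ⟨d', rfl⟩ := hd
      obtain ⟨k, hk⟩ := sq_dvd_F_prime_sub hp hp2 (r := r ^ d') (pow_sub_one_dvd hr d')
      rw [mul_comm p d', F_mul, show F (r ^ d') p = (p : ℤ) * (1 + p * k) by linear_combination hk,
        pow_succ, pow_succ, show F r d' * ((p : ℤ) * (1 + p * k)) = (F r d' * (1 + p * k)) * p by ring,
        mul_dvd_mul_iff_right (by exact_mod_cast hp.ne_zero), Nat.mul_dvd_mul_iff_right hp.pos, ← ih hr d']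
      refine ⟨fun h => IsCoprime.dvd_of_dvd_mul_right ?_ h, fun h => h.mul_right _⟩
      exact IsCoprime.pow_left ⟨-k, 1, by ring⟩
    · constructor
      · intro h
        exfalso
        have h1 : (p : ℤ) ∣ F r d := (dvd_pow_self (p : ℤ) (Nat.succ_ne_zero n)).trans h
        have h2 := dvd_sub h1 (F_sub_dvd hr d)
        rw [sub_sub_cancel, Int.natCast_dvd_natCast] at h2
        exact hd h2
      · exact fun h => absurd ((dvd_pow_self p (Nat.succ_ne_zero n)).trans h) hd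

/-- `k ↦ F r k` is injective modulo `p^n` on residues modulo `p^n` -/
theorem F_modEq_iff (hp : p.Prime) (hp2 : p ≠ 2) {r : ℤ} (hr : (p : ℤ) ∣ r - 1) (n j k : ℕ) :
    F r j ≡ F r k [ZMOD (p : ℤ) ^ n] ↔ j ≡ k [MOD p ^ n] := by
  wlog hjk : j ≤ k generalizing j k
  · exact (Int.modEq_comm.trans (this k j (Nat.le_of_not_le hjk))).trans Nat.ModEq.comm
  obtain ⟨d, rfl⟩ := Nat.exists_eq_add_of_le hjk
  have hcop : IsCoprime ((p : ℤ) ^ n) (r ^ j) := by
    obtain ⟨t, ht⟩ := hr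
    exact IsCoprime.pow ⟨-t, 1, by linear_combination ht⟩
  rw [Int.modEq_iff_dvd, F_add, add_sub_cancel_left, Nat.modEq_iff_dvd' hjk, Nat.add_sub_cancel_left,
    ← pow_dvd_F_iff hp hp2 n hr d]
  exact ⟨fun h => hcop.dvd_of_dvd_mul_left h, fun h => h.mul_left _⟩

theorem F_surjective (hp : p.Prime) (hp2 : p ≠ 2) {r : ℤ} (hr : (p : ℤ) ∣ r - 1) (n : ℕ)
    (z : ZMod (p ^ n)) : ∃ k : ℕ, k < p ^ n ∧ ((F r k : ℤ) : ZMod (p ^ n)) = z := by
  haveI : NeZero (p ^ n) := ⟨pow_ne_zero n hp.ne_zero⟩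
  have hinj : Function.Injective (fun k : Fin (p ^ n) => ((F r k : ℤ) : ZMod (p ^ n))) := by
    intro a b h
    simp only [ZMod.intCast_eq_intCast_iff, Nat.cast_pow, F_modEq_iff hp hp2 hr] at h
    exact Fin.ext (Nat.ModEq.eq_of_lt_of_lt h a.2 b.2)
  have hb := hinj.bijective_of_nat_card_le (by simp)
  obtain ⟨k, hk⟩ := hb.2 z
  exact ⟨k, k.2, hk⟩

/-- `F · (p^γ)` is Lipschitz: its increments are divisible by `p^γ` times those of the argument. -/
theorem dvd_F_sub_F (hp : p.Prime) (hp2 : p ≠ 2) : ∀ (γ : ℕ) {r s : ℤ}, (p : ℤ) ∣ r - 1 → (p : ℤ) ∣ s - 1 →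
    (p : ℤ) ^ γ * (r - s) ∣ F r (p ^ γ) - F s (p ^ γ) := by
  intro γ
  induction γ with
  | zero => intro r s _ _; simp [F_one]
  | succ γ ih =>
    intro r s hr hs
    rw [pow_succ p γ, F_mul, F_mul,
      show F r (p ^ γ) * F (r ^ p ^ γ) p - F s (p ^ γ) * F (s ^ p ^ γ) p =
        (F r (p ^ γ) - F s (p ^ γ)) * F (r ^ p ^ γ) p +
          F s (p ^ γ) * (F (r ^ p ^ γ) p - F (s ^ p ^ γ) p) by ring]
    have hB : (p : ℤ) ∣ F (r ^ p ^ γ) p := by
      have := dvd_add (F_sub_dvd (pow_sub_one_dvd hr (p ^ γ)) p) (dvd_refl (p : ℤ))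
      simpa using this
    have hA : (p : ℤ) ^ γ ∣ F s (p ^ γ) := (pow_dvd_F_iff hp hp2 γ hs _).mpr dvd_rfl
    have hD : (p : ℤ) * (r - s) ∣ F (r ^ p ^ γ) p - F (s ^ p ^ γ) p := by
      set z := r ^ p ^ γ with hz
      set w := s ^ p ^ γ with hw
      have hzw : F z p - F w p = (z - w) * ∑ i ∈ range p, ∑ j ∈ range i, z ^ j * w ^ (i - 1 - j) := by
        rw [mul_sum, F, F, ← sum_sub_distrib]
        exact sum_congr rfl fun i _ => by rw [← geom_sum₂_mul z w i, mul_comm]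
      rw [hzw, mul_comm (p : ℤ) (r - s)]
      refine mul_dvd_mul (sub_dvd_pow_sub_pow r s (p ^ γ)) ?_
      have h1 : (p : ℤ) ∣ ∑ i ∈ range p, ((∑ j ∈ range i, z ^ j * w ^ (i - 1 - j)) - (i : ℤ)) := by
        refine dvd_sum fun i _ => ?_
        rw [show (i : ℤ) = ∑ _j ∈ range i, (1 : ℤ) by simp, ← sum_sub_distrib]
        refine dvd_sum fun j _ => ?_
        rw [show z ^ j * w ^ (i - 1 - j) - 1 = (z ^ j - 1) * w ^ (i - 1 - j) + (w ^ (i - 1 - j) - 1) by ring]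
        exact dvd_add (dvd_mul_of_dvd_left (pow_sub_one_dvd (pow_sub_one_dvd hr _) j) _)
          (pow_sub_one_dvd (pow_sub_one_dvd hs _) _)
      have h2 : (p : ℤ) ∣ ∑ i ∈ range p, (i : ℤ) := by
        rw [← Nat.cast_sum, Int.natCast_dvd_natCast]
        exact (((Nat.coprime_primes hp Nat.prime_two).mpr hp2).dvd_mul_right).mp
          ⟨p - 1, by rw [sum_range_id_mul_two]⟩
      rw [sum_sub_distrib] at h1
      simpa using dvd_add h1 h2
    refine dvd_add ?_ ?_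
    · rw [pow_succ, mul_right_comm]
      exact mul_dvd_mul (ih hr hs) hB
    · rw [pow_succ, mul_assoc]
      exact mul_dvd_mul hA hD

end Cfsg.Agent.Lib.Metacyclic
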